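import Mathlib

/-!
# Project SU5, presentation assembly (helper27): the generic lemma `coprod_pres`

Two groups with MARKED presentations in the hom form (`IsMarked`), and any finite list `rels` of elements of their free product:
the quotient of the free product by the normal closure of `rels` has a presentation on `n₁ + n₂` generators with at most
`L₁.length + L₂.length + rels.length` relators.
-/

set_option autoImplicit false

namespace Cfsg.Agent.Lib.Helper27.SU5P

universe u v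

/-- A marked presentation in the hom form: the `g i` generate `M`, satisfy the relators of `L`, and every tuple of a group `G : Type`
satisfying them is the image of the `g i` under a homomorphism. -/
def IsMarked {M : Type u} [Group M] {n : ℕ} (g : Fin n → M) (L : List (FreeGroup (Fin n))) : Prop :=
  Subgroup.closure (Set.range g) = ⊤ ∧ (∀ x ∈ L, FreeGroup.lift g x = 1) ∧
    ∀ (G : Type) [Group G] (w : Fin n → G), (∀ x ∈ L, FreeGroup.lift w x = 1) → ∃ φ : M →* G, ∀ i, φ (g i) = w i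

section

variable {M₁ : Type u} {M₂ : Type v} [Group M₁] [Group M₂] {n₁ n₂ : ℕ}

/-- the left inclusion of free groups -/
def inA (n₁ n₂ : ℕ) : FreeGroup (Fin n₁) →* FreeGroup (Fin (n₁ + n₂)) := FreeGroup.map (Fin.castAdd n₂)

/-- the right inclusion of free groups -/
def inB (n₁ n₂ : ℕ) : FreeGroup (Fin n₂) →* FreeGroup (Fin (n₁ + n₂)) := FreeGroup.map (Fin.natAdd n₁)

/-- evaluation of a word in the free product at the two marked tuples -/
def evC (g₁ : Fin n₁ → M₁) (g₂ : Fin n₂ → M₂) : FreeGroup (Fin (n₁ + n₂)) →* Monoid.Coprod M₁ M₂ :=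
  FreeGroup.lift (Fin.append (fun i => Monoid.Coprod.inl (g₁ i)) (fun j => Monoid.Coprod.inr (g₂ j)))

theorem evC_inA (g₁ : Fin n₁ → M₁) (g₂ : Fin n₂ → M₂) (x : FreeGroup (Fin n₁)) :
    evC g₁ g₂ (inA n₁ n₂ x) = Monoid.Coprod.inl (FreeGroup.lift g₁ x) := by
  have : (evC g₁ g₂).comp (inA n₁ n₂) = (Monoid.Coprod.inl).comp (FreeGroup.lift g₁) := by
    ext i
    simp [evC, inA]
  exact DFunLike.congr_fun this x

theorem evC_inB (g₁ : Fin n₁ → M₁) (g₂ : Fin n₂ → M₂) (x : FreeGroup (Fin n₂)) :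
    evC g₁ g₂ (inB n₁ n₂ x) = Monoid.Coprod.inr (FreeGroup.lift g₂ x) := by
  have : (evC g₁ g₂).comp (inB n₁ n₂) = (Monoid.Coprod.inr).comp (FreeGroup.lift g₂) := by
    ext i
    simp [evC, inB]
  exact DFunLike.congr_fun this x

theorem evC_surjective {g₁ : Fin n₁ → M₁} {g₂ : Fin n₂ → M₂} (h₁ : Subgroup.closure (Set.range g₁) = ⊤)
    (h₂ : Subgroup.closure (Set.range g₂) = ⊤) : Function.Surjective (evC g₁ g₂) := by
  rw [← MonoidHom.range_eq_top, eq_top_iff, ← Monoid.Coprod.closure_range_inl_union_inr, Subgroup.closure_le]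
  rintro x (⟨m, rfl⟩ | ⟨m, rfl⟩)
  · have hm : m ∈ Subgroup.closure (Set.range g₁) := h₁ ▸ Subgroup.mem_top m
    have : Subgroup.closure (Set.range g₁) ≤ ((evC g₁ g₂).range).comap Monoid.Coprod.inl := by
      rw [Subgroup.closure_le]
      rintro _ ⟨i, rfl⟩
      exact ⟨FreeGroup.of (Fin.castAdd n₂ i), by simp [evC]⟩
    exact this hm
  · have hm : m ∈ Subgroup.closure (Set.range g₂) := h₂ ▸ Subgroup.mem_top m
    have : Subgroup.closure (Set.range g₂) ≤ ((evC g₁ g₂).range).comap Monoid.Coprod.inr := by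
      rw [Subgroup.closure_le]
      rintro _ ⟨i, rfl⟩
      exact ⟨FreeGroup.of (Fin.natAdd n₁ i), by simp [evC]⟩
    exact this hm

/-- **the generic assembly**: the quotient of the free product of two marked groups by finitely many relators is finitely presented, with the expected count. -/
theorem coprod_pres {g₁ : Fin n₁ → M₁} {L₁ : List (FreeGroup (Fin n₁))} (h₁ : IsMarked g₁ L₁)
    {g₂ : Fin n₂ → M₂} {L₂ : List (FreeGroup (Fin n₂))} (h₂ : IsMarked g₂ L₂)
    (rels : List (Monoid.Coprod M₁ M₂)) :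
    ∃ R : Finset (FreeGroup (Fin (n₁ + n₂))), R.card ≤ L₁.length + L₂.length + rels.length ∧
      Nonempty (PresentedGroup (↑R : Set (FreeGroup (Fin (n₁ + n₂)))) ≃*
        (Monoid.Coprod M₁ M₂ ⧸ Subgroup.normalClosure {g | g ∈ rels})) := by
  classical
  obtain ⟨hg₁, hr₁, hu₁⟩ := h₁
  obtain ⟨hg₂, hr₂, hu₂⟩ := h₂
  have hsurj := evC_surjective (g₁ := g₁) (g₂ := g₂) hg₁ hg₂
  let w : Monoid.Coprod M₁ M₂ → FreeGroup (Fin (n₁ + n₂)) := Function.surjInv hsurj
  have hw : ∀ x, evC g₁ g₂ (w x) = x := Function.surjInv_eq hsurj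
  let Lall : List (FreeGroup (Fin (n₁ + n₂))) := L₁.map (inA n₁ n₂) ++ L₂.map (inB n₁ n₂) ++ rels.map w
  refine ⟨Lall.toFinset, ?_, ?_⟩
  · refine (List.toFinset_card_le _).trans ?_
    simp [Lall]
    omega
  set R : Set (FreeGroup (Fin (n₁ + n₂))) := (↑Lall.toFinset : Set (FreeGroup (Fin (n₁ + n₂)))) with hR
  have memR : ∀ x, x ∈ R ↔ (∃ y ∈ L₁, inA n₁ n₂ y = x) ∨ (∃ y ∈ L₂, inB n₁ n₂ y = x) ∨ ∃ y ∈ rels, w y = x := by
    intro x
    simp [hR, Lall]
  let N : Subgroup (Monoid.Coprod M₁ M₂) := Subgroup.normalClosure {g | g ∈ rels}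
  -- forward
  let f : Fin (n₁ + n₂) → Monoid.Coprod M₁ M₂ ⧸ N := fun i => QuotientGroup.mk' N (evC g₁ g₂ (FreeGroup.of i))
  have hf : FreeGroup.lift f = (QuotientGroup.mk' N).comp (evC g₁ g₂) := by
    ext i
    simp [f]
  have hfr : ∀ r ∈ R, FreeGroup.lift f r = 1 := by
    intro r hr
    rw [hf, MonoidHom.comp_apply]
    rcases (memR r).1 hr with ⟨y, hy, rfl⟩ | ⟨y, hy, rfl⟩ | ⟨y, hy, rfl⟩
    · rw [evC_inA, hr₁ y hy, map_one, map_one]
    · rw [evC_inB, hr₂ y hy, map_one, map_one]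
    · rw [hw]
      exact (QuotientGroup.eq_one_iff _).2 (Subgroup.subset_normalClosure hy)
  let Ψ : PresentedGroup R →* Monoid.Coprod M₁ M₂ ⧸ N := PresentedGroup.toGroup hfr
  -- backward
  obtain ⟨φ₁, hφ₁⟩ := hu₁ (PresentedGroup R) (fun i => PresentedGroup.of (Fin.castAdd n₂ i)) (by
    intro x hx
    have : FreeGroup.lift (fun i => (PresentedGroup.of (Fin.castAdd n₂ i) : PresentedGroup R)) =
        (PresentedGroup.mk R).comp (inA n₁ n₂) := by
      ext i
      simp [inA, PresentedGroup.of]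
    rw [this, MonoidHom.comp_apply]
    exact PresentedGroup.one_of_mem ((memR _).2 (Or.inl ⟨x, hx, rfl⟩)))
  obtain ⟨φ₂, hφ₂⟩ := hu₂ (PresentedGroup R) (fun i => PresentedGroup.of (Fin.natAdd n₁ i)) (by
    intro x hx
    have : FreeGroup.lift (fun i => (PresentedGroup.of (Fin.natAdd n₁ i) : PresentedGroup R)) =
        (PresentedGroup.mk R).comp (inB n₁ n₂) := by
      ext i
      simp [inB, PresentedGroup.of]
    rw [this, MonoidHom.comp_apply]
    exact PresentedGroup.one_of_mem ((memR _).2 (Or.inr (Or.inl ⟨x, hx, rfl⟩))))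
  let Λ : Monoid.Coprod M₁ M₂ →* PresentedGroup R := Monoid.Coprod.lift φ₁ φ₂
  have hΛ : Λ.comp (evC g₁ g₂) = PresentedGroup.mk R := by
    ext i
    refine Fin.addCases (fun j => ?_) (fun j => ?_) i
    · simp [Λ, evC, hφ₁, PresentedGroup.of]
    · simp [Λ, evC, hφ₂, PresentedGroup.of]
  have hΛ' : ∀ y, Λ (evC g₁ g₂ y) = PresentedGroup.mk R y := fun y => DFunLike.congr_fun hΛ y
  have hker : N ≤ Λ.ker := by
    refine Subgroup.normalClosure_le_normal ?_
    intro x hx
    rw [SetLike.mem_coe, MonoidHom.mem_ker, ← hw x, hΛ']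
    exact PresentedGroup.one_of_mem ((memR _).2 (Or.inr (Or.inr ⟨x, hx, rfl⟩)))
  let Φ : Monoid.Coprod M₁ M₂ ⧸ N →* PresentedGroup R := QuotientGroup.lift N Λ hker
  have h1 : Φ.comp Ψ = MonoidHom.id _ := by
    apply PresentedGroup.ext
    intro i
    simp only [MonoidHom.comp_apply, MonoidHom.id_apply, Ψ, PresentedGroup.toGroup.of, f, Φ]
    rw [QuotientGroup.mk'_apply, QuotientGroup.lift_mk, hΛ']
    rfl
  have h2 : ∀ q, Ψ (Φ q) = q := by
    intro q
    induction q using QuotientGroup.induction_on with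
    | H x =>
      obtain ⟨y, rfl⟩ := hsurj x
      simp only [Φ, QuotientGroup.lift_mk, hΛ']
      change FreeGroup.lift f y = _
      rw [hf]
      rfl
  exact ⟨MonoidHom.toMulEquiv Ψ Φ h1 (MonoidHom.ext h2)⟩

end

end Cfsg.Agent.Lib.Helper27.SU5P
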