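import Mathlib
import Cfsg.Agent.Lib.Helper27.SU5P.Coprod
import Cfsg.Agent.Lib.helper15.SP4H6
import Cfsg.Agent.Lib.helper6.SLPM4
import Cfsg.Agent.Lib.Helper12.SU3S.Equiv
import Cfsg.Agent.Lib.Helper25.U3PFIN4
import Cfsg.Agent.Lib.Helper18.U3PP2
import Cfsg.Agent.Lib.Helper27.STU.Frob

/-!
# Project SU5, presentation assembly (helper27): the two marked rank one groups

* `marked_sl2`: `SL₂(F)` on `![xM 1, hM ζ, wM]`, at most 9 relators (SP4 `sl_hom`).
* `marked_su3`: `SU 3 F q` on three generators, at most 22 relators, every `q` (helper12's SU3S for `q = 2, 3, 5`, U3P `su3_list` otherwise).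
* `marked_sum`: the same for the rank one model `SUm F True` (helper12's bridge `sum_of_su`).
-/

set_option autoImplicit false

namespace Cfsg.Agent.Lib.Helper27.SU5P

universe u

theorem range_vec3 {α : Type*} (a b c : α) : Set.range ![a, b, c] = {a, b, c} := by
  ext x
  constructor
  · rintro ⟨i, rfl⟩
    fin_cases i <;> simp
  · intro hx
    simp only [Set.mem_insert_iff, Set.mem_singleton_iff] at hx
    rcases hx with rfl | rfl | rfl
    · exact ⟨0, rfl⟩
    · exact ⟨1, rfl⟩
    · exact ⟨2, rfl⟩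

/-- `SL₂(F)` is marked on `x(1)`, `h(ζ)`, `w` with at most 9 relators. -/
theorem marked_sl2 {F : Type u} [Field F] [Fintype F] (ζ : Fˣ) (hζ : ∀ y : Fˣ, y ∈ Subgroup.zpowers ζ) :
    ∃ L : List (FreeGroup (Fin 3)), L.length ≤ 9 ∧
      IsMarked (![Cfsg.Agent.Lib.helper17.SLP.xM (1 : F), Cfsg.Agent.Lib.helper17.SLP.hM ζ,
        Cfsg.Agent.Lib.helper17.SLP.wM] : Fin 3 → Matrix.SpecialLinearGroup (Fin 2) F) L := by
  obtain ⟨L, az, hL9, -, hrel, -, hhom⟩ := Cfsg.Agent.Lib.helper3.SP4.sl_hom ζ hζ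
  refine ⟨L, hL9, ?_, ?_, ?_⟩
  · rw [range_vec3]
    exact Cfsg.Agent.Lib.helper17.SLP.closure_M ζ hζ
  · intro x hx
    exact hrel x hx
  · intro G _ w hw
    obtain ⟨φ, h0, h1, h2⟩ := hhom G (w 0) (w 1) (w 2) (by
      intro r hr
      have : (![w 0, w 1, w 2] : Fin 3 → G) = w := by
        funext i
        fin_cases i <;> rfl
      unfold Cfsg.Agent.Lib.helper17.SLP.ev
      rw [this]
      exact hw r hr)
    refine ⟨φ, fun i => ?_⟩
    fin_cases i
    · exact h0
    · exact h1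
    · exact h2

/-- `SU₃(q)` is marked on three generators with at most 22 relators. -/
theorem marked_su3 {F : Type u} [Field F] [Fintype F] {q : ℕ} (hF : Fintype.card F = q ^ 2) :
    ∃ (g : Fin 3 → ↥(Cfsg.SU 3 F q)) (L : List (FreeGroup (Fin 3))), L.length ≤ 22 ∧
      Subgroup.closure (Set.range g) = ⊤ ∧ (∀ x ∈ L, FreeGroup.lift g x = 1) ∧
      ∀ (G : Type) [Group G] (u : Fin 3 → G), (∀ x ∈ L, FreeGroup.lift u x = 1) →
        ∃ φ : ↥(Cfsg.SU 3 F q) →* G, ∀ i, φ (g i) = u i := by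
  by_cases hq : q = 2 ∨ q = 3 ∨ q = 5
  · exact Cfsg.Agent.Lib.Helper12.SU3S.su3_small_pres hF hq
  · have hq4 : 4 ≤ q := by
      have h1 : 1 < Fintype.card F := Fintype.one_lt_card
      rw [hF] at h1
      have h2 : 2 ≤ q := by
        by_contra h
        have : q = 0 ∨ q = 1 := by omega
        rcases this with rfl | rfl <;> simp at h1
      omega
    have h5 : q ≠ 5 := fun h => hq (Or.inr (Or.inr h))
    obtain ⟨a, b, c, L, hL, hgen, hrel, hcard, -, -⟩ := Cfsg.Agent.Lib.Helper19.U3P.su3_list hF hq4 h5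
    refine ⟨![a, b, c], L, hL, ?_, ?_, ?_⟩
    · rw [range_vec3]
      exact hgen
    · intro x hx
      exact hrel x hx
    · intro G _ w hw
      obtain ⟨ψ, h0, h1, h2⟩ := Cfsg.Agent.Lib.Helper19.U3P.pres_hom_hom L a b c hgen hrel hcard G (w 0) (w 1) (w 2) (by
        intro r hr
        have : (![w 0, w 1, w 2] : Fin 3 → G) = w := by
          funext i
          fin_cases i <;> rfl
        unfold Cfsg.Agent.Lib.helper17.SLP.ev
        rw [this]
        exact hw r hr)
      refine ⟨ψ, fun i => ?_⟩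
      fin_cases i
      · exact h0
      · exact h1
      · exact h2

/-- the rank one model `SUm F True` is marked on three generators with at most 22 relators (`star = x ↦ x ^ q`). -/
theorem marked_sum {F : Type u} [Field F] [Fintype F] [StarRing F] {q : ℕ} (hF : Fintype.card F = q ^ 2)
    (hs : ∀ x : F, star x = x ^ q) :
    ∃ (g : Fin 3 → ↥(Cfsg.Agent.Lib.Helper27.STU.SUm F True)) (L : List (FreeGroup (Fin 3))), L.length ≤ 22 ∧ IsMarked g L :=
  Cfsg.Agent.Lib.Helper12.SU3S.sum_of_su hF hs 22 (marked_su3 hF)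

end Cfsg.Agent.Lib.Helper27.SU5P
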