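import Mathlib
import Cfsg.Agent.Lib.Helper27.SU5P.Marked
import Cfsg.Agent.Lib.Helper19.SU5.Defs
import Cfsg.Agent.Lib.Helper20.GLO.Defs
import Cfsg.Agent.Lib.Helper27.STU.Sub

/-!
# Project SU5, presentation assembly (helper27): from `UG P ≃* H` to a presentation of `H` with 6 generators and at most 53 relators;
the three generators of the `SU₃(q)` on the index `1` of a rank two system (the hypothesis `hb` of GLO P14 `glue_odd_of_gens`).
-/

set_option autoImplicit false

namespace Cfsg.Agent.Lib.Helper27.SU5P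

universe u v w

theorem relsU_length {F : Type u} {K : Type u} [Field F] [Field K] [StarRing F] {D : Cfsg.Agent.Lib.Helper22.SU4.Tw F K}
    (P : Cfsg.Agent.Lib.Helper19.SU5.RO D) : (Cfsg.Agent.Lib.Helper19.SU5.relsU P).length = 22 := rfl

/-- **the presentation assembly**: the universal group `UG P` of helper19's 22 relators has a presentation with `3 + 3` generators and at most `9 + 22 + 22 = 53` relators;
so does every group isomorphic to it. -/
theorem pres_of_iso {F : Type u} {K : Type u} [Field F] [Fintype F] [Field K] [StarRing F] {q : ℕ}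
    (hF : Fintype.card F = q ^ 2) (hs : ∀ x : F, star x = x ^ q) {D : Cfsg.Agent.Lib.Helper22.SU4.Tw F K}
    (P : Cfsg.Agent.Lib.Helper19.SU5.RO D) {H : Type w} [Group H] (e : Cfsg.Agent.Lib.Helper19.SU5.UG P ≃* H) :
    ∃ rels : Finset (FreeGroup (Fin (3 + 3))), rels.card ≤ 53 ∧
      Nonempty (PresentedGroup (↑rels : Set (FreeGroup (Fin (3 + 3)))) ≃* H) := by
  obtain ⟨LA, hLA, hA⟩ := marked_sl2 P.ζ P.hζ
  obtain ⟨gB, LB, hLB, hB⟩ := marked_sum hF hs
  obtain ⟨R, hR, ⟨ε⟩⟩ := coprod_pres hA hB (Cfsg.Agent.Lib.Helper19.SU5.relsU P)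
  refine ⟨R, ?_, ⟨ε.trans e⟩⟩
  rw [relsU_length] at hR
  omega

/-- three generators of the `SU₃(q)` on the index `1` of a rank two system (for GLO P14). -/
theorem b1_gens {F : Type u} [Field F] [StarRing F] {L : Type v} [Group L]
    (S₂ : Cfsg.Agent.Lib.Helper27.STU.SysU F True (Fin 2) L) {n : ℕ}
    (g : Fin n → ↥(Cfsg.Agent.Lib.Helper27.STU.SUm F True)) (hg : Subgroup.closure (Set.range g) = ⊤) :
    ∃ b : Fin n → L, (∀ i, b i ∈ Cfsg.Agent.Lib.Helper20.GLO.B1 S₂) ∧
      (Cfsg.Agent.Lib.Helper20.GLO.B1 S₂ : Set L) ⊆ Subgroup.closure (Set.range b) := by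
  obtain ⟨ρ, hρ⟩ := S₂.r1 (Sum.inl 1)
  have hng : Cfsg.Agent.Lib.helper3.STC.ng (Sum.inl 1 : Fin 2 ⊕ Fin 2) = Sum.inr 1 := rfl
  have hp : ∀ ξ, ρ (Cfsg.Agent.Lib.Helper27.STU.XpU ξ) ∈ Cfsg.Agent.Lib.Helper20.GLO.B1 S₂ := by
    intro ξ
    rw [(hρ ξ).1]
    exact Subgroup.subset_closure (Or.inr ⟨Sum.inl 1, ξ, ⟨rfl, rfl⟩, rfl⟩)
  have hm : ∀ ξ, ρ (Cfsg.Agent.Lib.Helper27.STU.XmU ξ) ∈ Cfsg.Agent.Lib.Helper20.GLO.B1 S₂ := by
    intro ξ
    rw [(hρ ξ).2, hng]
    exact Subgroup.subset_closure (Or.inr ⟨Sum.inr 1, ξ, ⟨rfl, rfl⟩, rfl⟩)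
  refine ⟨fun i => ρ (g i), fun i => Cfsg.Agent.Lib.Helper27.STU.SysU.sub_r1_mem ρ hp hm (g i), ?_⟩
  have hall : ∀ M, ρ M ∈ Subgroup.closure (Set.range fun i => ρ (g i)) := by
    intro M
    have hM : M ∈ Subgroup.closure (Set.range g) := hg ▸ Subgroup.mem_top M
    have hle : Subgroup.closure (Set.range g) ≤ (Subgroup.closure (Set.range fun i => ρ (g i))).comap ρ := by
      rw [Subgroup.closure_le]
      rintro _ ⟨i, rfl⟩
      exact Subgroup.subset_closure ⟨i, rfl⟩
    exact hle hM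
  have hle : Cfsg.Agent.Lib.Helper20.GLO.B1 S₂ ≤ Subgroup.closure (Set.range fun i => ρ (g i)) := by
    unfold Cfsg.Agent.Lib.Helper20.GLO.B1 Cfsg.Agent.Lib.Helper27.STU.SysU.XQ
    rw [Subgroup.closure_le]
    rintro x (⟨a, b, t, hab, hab', ⟨ha, hb⟩, rfl⟩ | ⟨a, ξ, ⟨ha, -⟩, rfl⟩)
    · exfalso
      rcases a with a | a <;> rcases b with b | b
      · exact hab (by
          have ha' : a = 1 := ha
          have hb' : b = 1 := hb
          rw [ha', hb'])
      · exact hab' (by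
          have ha' : a = 1 := ha
          have hb' : b = 1 := hb
          rw [ha', hb']
          rfl)
      · exact hab' (by
          have ha' : a = 1 := ha
          have hb' : b = 1 := hb
          rw [ha', hb']
          rfl)
      · exact hab (by
          have ha' : a = 1 := ha
          have hb' : b = 1 := hb
          rw [ha', hb'])
    · rcases a with a | a
      · have ha' : a = 1 := ha
        rw [ha', ← (hρ ξ).1]
        exact hall _
      · have ha' : a = 1 := ha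
        rw [ha', ← hng, ← (hρ ξ).2]
        exact hall _
  exact hle

end Cfsg.Agent.Lib.Helper27.SU5P
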